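import Mathlib.RingTheory.IntegralDomain
import Cfsg.Agent.Lib.Char.Formulas
import Cfsg.Agent.Lib.Char.Burnside
import Cfsg.Agent.Lib.Char.ScalarRestriction
import Cfsg.Agent.Lib.Char.ExtGroup
import Cfsg.Agent.Lib.Char.Linear
import Cfsg.Agent.Lib.Char.Quotient

/-!
# Characters over a linear character of a central subgroup
-/

set_option autoImplicit false
set_option linter.unusedSectionVars false
set_option linter.style.haveILetI false

namespace Cfsg.Lib.BDeg

open Cfsg Cfsg.Lib.Char Module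
open scoped ComplexConjugate

universe u

variable {G : Type u} [Group G] [Finite G]

/-- `χ` takes the values `l z * χ 1` on the subgroup `Z`. -/
def Over (Z : Subgroup G) (l : Z →* ℂˣ) (χ : G → ℂ) : Prop :=
  ∀ z : Z, χ z = (l z : ℂ) * χ 1

/-- All irreducible characters over `l` have degree at most `n`. -/
def DegLe (Z : Subgroup G) (l : Z →* ℂˣ) (n : ℕ) : Prop :=
  ∀ χ : G → ℂ, IsIrrCharacter G χ → Over Z l χ → charDegree χ ≤ n

theorem norm_hom (Z : Subgroup G) (l : Z →* ℂˣ) (z : Z) : ‖(l z : ℂ)‖ = 1 :=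
  norm_eq_one_of_pow_orderOf (g := z) (by
    rw [← Units.val_pow_eq_pow_val, ← map_pow, pow_orderOf_eq_one, map_one, Units.val_one])

theorem rep_of_apply {m : ℕ} (ρ : Representation ℂ G (Fin m → ℂ)) {z : G} {c : ℂ}
    (hc : ‖c‖ = 1) (h : ρ.character z = c * ρ.character 1) : ρ z = c • LinearMap.id := by
  rcases Nat.eq_zero_or_pos m with rfl | hm
  · exact LinearMap.ext fun v => Subsingleton.elim _ _
  · rw [Representation.char_one] at h
    obtain ⟨d, hd⟩ := (norm_character_eq_iff ρ z).mp (by rw [h, norm_mul, hc]; simp)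
    have h1 : ρ.character z = d * (finrank ℂ (Fin m → ℂ) : ℂ) := by
      simp [Representation.character, hd, LinearMap.trace_id]
    have h0 : (finrank ℂ (Fin m → ℂ) : ℂ) ≠ 0 := by simp; omega
    rw [hd, mul_right_cancel₀ h0 (h1.symm.trans h)]

theorem apply_mul_of_scalar {χ : G → ℂ} (hχ : IsCharacter G χ) {z : G} {c : ℂ} (hc : ‖c‖ = 1)
    (h : χ z = c * χ 1) (g : G) : χ (z * g) = c * χ g := by
  obtain ⟨m, ρ, rfl⟩ := hχ
  have hz := rep_of_apply ρ hc h
  simp only [Representation.character, map_mul, hz, smul_mul_assoc, map_smul, smul_eq_mul]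
  rfl

theorem scalar_of_irr_constituent [Fintype G] {ψ φ : G → ℂ} (hψ : IsCharacter G ψ)
    (hφ : IsIrrCharacter G φ) (h : classInner ψ φ ≠ 0) {z : G} {c : ℂ} (hc : ‖c‖ = 1)
    (hz : ψ z = c * ψ 1) : φ z = c * φ 1 := by
  obtain ⟨m, ρ, rfl⟩ := hψ
  obtain ⟨k, η, hη, rfl⟩ := hφ
  haveI := hη
  have h1 := scalar_of_constituent ρ η h (rep_of_apply ρ hc hz)
  simp [Representation.character, h1, LinearMap.trace_id]

theorem exists_scalar_center {χ : G → ℂ} (hχ : IsIrrCharacter G χ) {z : G}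
    (hz : z ∈ Subgroup.center G) : ∃ c : ℂ, ‖c‖ = 1 ∧ χ z = c * χ 1 := by
  haveI := Fintype.ofFinite G
  obtain ⟨m, ρ, hρ, rfl⟩ := hχ
  haveI := hρ
  haveI : Nontrivial (Fin m → ℂ) := ((isIrreducible_iff_submodule ρ).mp hρ).1
  obtain ⟨c, hc⟩ := exists_smul_of_comm ρ (ρ z) fun b => by
    rw [← map_mul, ← map_mul, Subgroup.mem_center_iff.mp hz b]
  have hc' : ρ z = c • LinearMap.id := hc
  exact ⟨c, norm_scalar_eq_one ρ hc', by simp [Representation.character, hc', LinearMap.trace_id]⟩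

/-- The central character of an irreducible character. -/
theorem exists_over {Z : Subgroup G} (hZ : Z ≤ Subgroup.center G) {χ : G → ℂ}
    (hχ : IsIrrCharacter G χ) : ∃ μ : Z →* ℂˣ, Over Z μ χ := by
  choose c hc hcv using fun z : Z => exists_scalar_center hχ (hZ z.2)
  have h0 := hχ.apply_one_ne_zero
  refine ⟨MonoidHom.toHomUnits
    { toFun := c
      map_one' := mul_right_cancel₀ h0 (by rw [← hcv, one_mul]; rfl)
      map_mul' := fun a b => mul_right_cancel₀ h0 (by
        rw [← hcv, mul_assoc, ← hcv, Subgroup.coe_mul,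
          apply_mul_of_scalar hχ.isCharacter (hc a) (hcv a)]) },
    fun z => hcv z⟩

open scoped Classical in
/-- The irreducible characters over `l`. -/
noncomputable def overSet [Fintype G] (Z : Subgroup G) (l : Z →* ℂˣ) : Finset (IrrCharacter G) :=
  Finset.univ.filter fun χ : IrrCharacter G => Over Z l (χ : G → ℂ)

open scoped Classical in
theorem mem_overSet [Fintype G] {Z : Subgroup G} {l : Z →* ℂˣ} {χ : IrrCharacter G} :
    χ ∈ overSet Z l ↔ Over Z l (χ : G → ℂ) := by simp [overSet]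

open scoped Classical in
/-- Column orthogonality relative to a central subgroup. -/
theorem sum_over [Fintype G] {Z : Subgroup G} [Fintype Z] (hZ : Z ≤ Subgroup.center G)
    (l : Z →* ℂˣ) (g h : G) :
    (Nat.card Z : ℂ) * ∑ χ ∈ overSet Z l, (χ : G → ℂ) g * conj ((χ : G → ℂ) h) =
      ∑ z : Z, conj (l z : ℂ) * if IsConj ((z : G) * g) h then
        (Nat.card (Subgroup.centralizer ({(z : G) * g} : Set G)) : ℂ) else 0 := by
  simp_rw [← column_orthogonality, Finset.mul_sum]
  rw [Finset.sum_comm (s := (Finset.univ : Finset Z)), overSet, Finset.sum_filter]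
  refine Finset.sum_congr rfl fun χ _ => ?_
  obtain ⟨μ, hμ⟩ := exists_over hZ χ.2
  have hterm : ∀ z : Z, conj (l z : ℂ) * ((χ : G → ℂ) ((z : G) * g) * conj ((χ : G → ℂ) h)) =
      (conj (l z : ℂ) * (μ z : ℂ)) * ((χ : G → ℂ) g * conj ((χ : G → ℂ) h)) := fun z => by
    rw [apply_mul_of_scalar χ.2.isCharacter (norm_hom Z μ z) (hμ z)]
    ring
  simp_rw [hterm, ← Finset.sum_mul]
  have hn : ∀ z : Z, conj (l z : ℂ) = ((l⁻¹ : Z →* ℂˣ) z : ℂ) := fun z => by
    simp [Complex.inv_eq_conj (norm_hom Z l z)]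
  by_cases hl : Over Z l (χ : G → ℂ)
  · rw [if_pos hl]
    have hμl : μ = l := MonoidHom.ext fun z =>
      Units.ext (mul_right_cancel₀ χ.2.apply_one_ne_zero ((hμ z).symm.trans (hl z)))
    congr 1
    subst hμl
    rw [Finset.sum_congr rfl fun z _ => show conj (μ z : ℂ) * (μ z : ℂ) = 1 by
      rw [mul_comm, Complex.mul_conj, Complex.normSq_eq_norm_sq, norm_hom Z μ z]; simp]
    simp [Nat.card_eq_fintype_card]
  · rw [if_neg hl]
    have hne : (l⁻¹ * μ : Z →* ℂˣ) ≠ 1 := fun he => hl fun z => by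
      rw [hμ z]
      have := DFunLike.congr_fun he z
      rw [MonoidHom.mul_apply, MonoidHom.inv_apply, MonoidHom.one_apply, inv_mul_eq_one] at this
      rw [this]
    have h0 := sum_hom_units_eq_zero ((Units.coeHom ℂ).comp (l⁻¹ * μ : Z →* ℂˣ)) (fun he =>
      hne (MonoidHom.ext fun z => Units.ext (by simpa using DFunLike.congr_fun he z)))
    rw [Finset.sum_congr rfl fun z _ => show conj (l z : ℂ) * (μ z : ℂ) =
      ((Units.coeHom ℂ).comp (l⁻¹ * μ : Z →* ℂˣ)) z by simp [hn z], h0, zero_mul]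

theorem card_mul_sum_sq [Fintype G] {Z : Subgroup G} (hZ : Z ≤ Subgroup.center G)
    (l : Z →* ℂˣ) :
    (Nat.card Z : ℂ) * ∑ χ ∈ overSet Z l, ((χ : G → ℂ) 1) ^ 2 = (Nat.card G : ℂ) := by
  classical
  haveI := Fintype.ofFinite Z
  have h := sum_over hZ l 1 1
  rw [Finset.sum_eq_single (1 : Z) (fun z _ hz => by
    rw [if_neg (fun hc => hz (Subtype.ext (by simpa using isConj_one_left.mp hc))), mul_zero])
    (by simp)] at h
  have hc : Nat.card (Subgroup.centralizer ({(1 : G)} : Set G)) = Nat.card G :=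
    Nat.card_congr (Equiv.subtypeUnivEquiv fun x => by simp [Subgroup.mem_centralizer_iff])
  simp only [Subgroup.coe_one, mul_one, IsConj.refl, if_true, map_one, Units.val_one, one_mul,
    hc] at h
  rw [← h]
  congr 1
  refine Finset.sum_congr rfl fun χ _ => ?_
  obtain ⟨m, -, hm⟩ := χ.2.exists_degree
  simp [hm, sq]

theorem exists_irr_over {Z : Subgroup G} (hZ : Z ≤ Subgroup.center G) (l : Z →* ℂˣ) :
    ∃ χ : G → ℂ, IsIrrCharacter G χ ∧ Over Z l χ := by
  haveI := Fintype.ofFinite G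
  have h := card_mul_sum_sq hZ l
  obtain ⟨χ, hχ, -⟩ := Finset.exists_ne_zero_of_sum_ne_zero (s := overSet Z l)
    (f := fun χ : IrrCharacter G => ((χ : G → ℂ) 1) ^ 2) fun h0 => by
      rw [h0, mul_zero] at h
      exact card_cast_ne_zero (G := G) h.symm
  exact ⟨χ, χ.2, mem_overSet.mp hχ⟩

/-- The characters over `l` separate the elements outside `Z` from the identity. -/
theorem exists_over_apply_ne {Z : Subgroup G} (hZ : Z ≤ Subgroup.center G)
    (l : Z →* ℂˣ) (hl : Function.Injective l) {c : G} (hc : c ≠ 1) :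
    ∃ χ : G → ℂ, IsIrrCharacter G χ ∧ Over Z l χ ∧ χ c ≠ χ 1 := by
  classical
  haveI := Fintype.ofFinite G
  haveI := Fintype.ofFinite Z
  by_cases hcZ : c ∈ Z
  · obtain ⟨χ, hχ, ho⟩ := exists_irr_over hZ l
    refine ⟨χ, hχ, ho, fun he => hc ?_⟩
    have h1 := ho ⟨c, hcZ⟩
    rw [show χ ((⟨c, hcZ⟩ : Z) : G) = χ c from rfl, he] at h1
    have h2 : (l ⟨c, hcZ⟩ : ℂ) = 1 :=
      mul_right_cancel₀ hχ.apply_one_ne_zero (h1.symm.trans (one_mul _).symm)
    exact congrArg Subtype.val (hl ((Units.ext h2).trans (map_one l).symm) :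
      (⟨c, hcZ⟩ : Z) = 1)
  · by_contra hcon
    push Not at hcon
    have h := sum_over hZ l c 1
    rw [Finset.sum_eq_zero (s := (Finset.univ : Finset Z)) fun z _ => by
      rw [if_neg, mul_zero]
      intro he
      have h1 : (z : G) * c = 1 := isConj_one_left.mp he
      exact hcZ (by rw [eq_inv_of_mul_eq_one_right h1]; exact inv_mem z.2)] at h
    have h2 : ∑ χ ∈ overSet Z l, (χ : G → ℂ) c * conj ((χ : G → ℂ) 1) =
        ∑ χ ∈ overSet Z l, ((χ : G → ℂ) 1) ^ 2 := Finset.sum_congr rfl fun χ hχ => by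
      obtain ⟨m, -, hm⟩ := χ.2.exists_degree
      rw [hcon χ χ.2 (mem_overSet.mp hχ), hm, Complex.conj_natCast, sq]
    rw [h2, card_mul_sum_sq hZ l] at h
    exact card_cast_ne_zero (G := G) h

/-- For a faithful `l`, the sum of squared moduli at `g` is at most the centraliser order. -/
theorem norm_sum_le [Fintype G] {Z : Subgroup G} (hZ : Z ≤ Subgroup.center G)
    (l : Z →* ℂˣ) (hl : Function.Injective l) (g : G) :
    (Nat.card Z : ℝ) * ∑ χ ∈ overSet Z l, Complex.normSq ((χ : G → ℂ) g) ≤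
      (Nat.card (Subgroup.centralizer ({g} : Set G)) : ℝ) := by
  classical
  haveI := Fintype.ofFinite Z
  by_cases hz : ∃ z : Z, z ≠ 1 ∧ IsConj ((z : G) * g) g
  · obtain ⟨z, hz1, hc⟩ := hz
    refine le_of_eq_of_le ?_ (Nat.cast_nonneg _)
    rw [Finset.sum_eq_zero, mul_zero]
    intro χ hχ
    have h1 : (χ : G → ℂ) ((z : G) * g) = (χ : G → ℂ) g := (isConj_iff_forall_irr _ _).mp hc χ
    rw [apply_mul_of_scalar χ.2.isCharacter (norm_hom Z l z) (mem_overSet.mp hχ z)] at h1
    rw [Complex.normSq_eq_zero]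
    by_contra h0
    exact hz1 (hl ((Units.ext (mul_right_cancel₀ h0 (h1.trans (one_mul _).symm))).trans
      (map_one l).symm))
  · push Not at hz
    have h := sum_over hZ l g g
    rw [Finset.sum_eq_single (1 : Z) (fun z _ hz1 => by rw [if_neg (hz z hz1), mul_zero])
      (by simp)] at h
    simp only [Subgroup.coe_one, one_mul, IsConj.refl, if_true, map_one, Units.val_one] at h
    simp_rw [Complex.mul_conj] at h
    exact le_of_eq (by exact_mod_cast h)

end Cfsg.Lib.BDeg
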