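import Mathlib.Tactic.NormNum.Prime
import Cfsg.Agent.Lib.BDeg.Scalar
import Cfsg.Agent.Lib.Char.Subconstituents
import Cfsg.Agent.Lib.Char.Induced

/-!
# A small class, or an abelian subgroup of small index
-/

set_option autoImplicit false
set_option linter.unusedSectionVars false
set_option linter.style.haveILetI false

namespace Cfsg.Lib.BDeg

open Cfsg Cfsg.Lib.Char
open scoped ComplexConjugate

universe u

variable {G : Type u} [Group G] [Finite G]

theorem count_classes {Z : Subgroup G} (hZ : Z ≤ Subgroup.center G) (l : Z →* ℂˣ)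
    (hl : Function.Injective l) {n c : ℕ} (hdeg : DegLe Z l n)
    (hc : ∀ g : G, g ∉ Subgroup.center G → c ≤ (Subgroup.centralizer ({g} : Set G)).index) :
    Nat.card G * c + n ^ 2 * Nat.card (Subgroup.center G) ≤
      n ^ 2 * c * Nat.card (Subgroup.center G) + n ^ 2 * Nat.card G := by
  classical
  haveI := Fintype.ofFinite G
  set k := (overSet Z l).card with hk
  have hG : (0 : ℝ) < Nat.card G := by exact_mod_cast Nat.card_pos
  have hZ0 : (0 : ℝ) ≤ Nat.card Z := Nat.cast_nonneg _
  have hrow : ∀ χ : IrrCharacter G, ∑ g, Complex.normSq ((χ : G → ℂ) g) = (Nat.card G : ℝ) := by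
    intro χ
    have h := classInner_irr_self χ.2
    rw [classInner, inv_mul_eq_one₀ (card_cast_ne_zero (G := G))] at h
    simp_rw [Complex.mul_conj] at h
    exact_mod_cast h.symm
  have h1 : (Nat.card Z : ℝ) * (k * Nat.card G) ≤
      ∑ g : G, (Nat.card (Subgroup.centralizer ({g} : Set G)) : ℝ) := by
    refine le_trans (le_of_eq ?_) (Finset.sum_le_sum fun g _ => norm_sum_le hZ l hl g)
    rw [← Finset.mul_sum, Finset.sum_comm, Finset.sum_congr rfl fun χ _ => hrow χ,
      Finset.sum_const, nsmul_eq_mul]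
  have hc' : ∀ g : G, (c : ℝ) * (Nat.card (Subgroup.centralizer ({g} : Set G)) : ℝ) ≤
      (if g ∈ Subgroup.center G then (c : ℝ) * Nat.card G - Nat.card G else 0) + Nat.card G := by
    intro g
    split_ifs with hg
    · rw [sub_add_cancel]
      exact mul_le_mul_of_nonneg_left (by exact_mod_cast Subgroup.card_le_card_group _)
        (Nat.cast_nonneg _)
    · rw [zero_add]
      have h := (Subgroup.centralizer ({g} : Set G)).index_mul_card
      exact_mod_cast (Nat.mul_le_mul_right _ (hc g hg)).trans h.le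
  have h2 := Finset.sum_le_sum (s := (Finset.univ : Finset G)) fun g _ => hc' g
  rw [← Finset.mul_sum, Finset.sum_add_distrib, ← Finset.sum_filter, Finset.sum_const,
    Finset.sum_const, nsmul_eq_mul, nsmul_eq_mul, Finset.card_univ, ← Fintype.card_subtype,
    ← Nat.card_eq_fintype_card, ← Nat.card_eq_fintype_card] at h2
  have hW : Nat.card {x : G // x ∈ Subgroup.center G} = Nat.card (Subgroup.center G) := rfl
  rw [hW] at h2
  have h3 : (Nat.card G : ℝ) ≤ (Nat.card Z : ℝ) * (k * (n : ℝ) ^ 2) := by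
    have h := congrArg Complex.re (card_mul_sum_sq hZ l)
    rw [Complex.natCast_re, Complex.mul_re, Complex.natCast_re, Complex.natCast_im, zero_mul,
      sub_zero, Complex.re_sum] at h
    rw [← h]
    refine mul_le_mul_of_nonneg_left ?_ hZ0
    refine le_trans (Finset.sum_le_card_nsmul _ _ ((n : ℝ) ^ 2) fun χ hχ => ?_)
      (le_of_eq (by rw [nsmul_eq_mul]))
    rw [χ.2.apply_one_eq_charDegree, sq, Complex.mul_re, Complex.natCast_re, Complex.natCast_im,
      mul_zero, sub_zero, ← sq]
    exact pow_le_pow_left₀ (Nat.cast_nonneg _)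
      (by exact_mod_cast hdeg χ χ.2 (mem_overSet.mp hχ)) 2
  have h4 : (c : ℝ) * ((Nat.card Z : ℝ) * k) ≤
      ((c : ℝ) - 1) * Nat.card (Subgroup.center G) + Nat.card G :=
    le_of_mul_le_mul_right (by nlinarith [mul_le_mul_of_nonneg_left h1 (Nat.cast_nonneg' c (α := ℝ))])
      hG
  have h5 : (Nat.card G : ℝ) * c + (n : ℝ) ^ 2 * Nat.card (Subgroup.center G) ≤
      (n : ℝ) ^ 2 * c * Nat.card (Subgroup.center G) + (n : ℝ) ^ 2 * Nat.card G := by
    nlinarith [mul_le_mul_of_nonneg_left h3 (Nat.cast_nonneg' c (α := ℝ)),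
      mul_le_mul_of_nonneg_left h4 (sq_nonneg (n : ℝ))]
  exact_mod_cast h5

theorem le_centralizer_singleton_center (g : G) :
    Subgroup.center G ≤ Subgroup.centralizer ({g} : Set G) := fun z hz => by
  rw [Subgroup.mem_centralizer_iff]
  rintro y rfl
  exact (Subgroup.mem_center_iff.mp hz y)

theorem prime_choice {n N : ℕ} (hn : 2 ≤ n) (hN1 : 1 < N) (hN : N ≤ n ^ 4)
    (h16 : n = 2 → N ≠ 16) : ∃ p, p.Prime ∧ p ∣ N ∧ N ≤ p * (n.factorial) ^ 2 := by
  rcases Nat.lt_or_ge n 4 with h | h
  · interval_cases n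
    · rcases le_or_gt N 8 with h8 | h8
      · exact ⟨N.minFac, Nat.minFac_prime (by omega), N.minFac_dvd, by
          have := (Nat.minFac_prime (show N ≠ 1 by omega)).two_le
          show N ≤ N.minFac * 4
          omega⟩
      · norm_num at hN
        have := h16 rfl
        interval_cases N
        · exact ⟨3, by norm_num, by norm_num, by decide⟩
        · exact ⟨5, by norm_num, by norm_num, by decide⟩
        · exact ⟨11, by norm_num, by norm_num, by decide⟩
        · exact ⟨3, by norm_num, by norm_num, by decide⟩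
        · exact ⟨13, by norm_num, by norm_num, by decide⟩
        · exact ⟨7, by norm_num, by norm_num, by decide⟩
        · exact ⟨5, by norm_num, by norm_num, by decide⟩
        · omega
    · rcases le_or_gt N 72 with h8 | h8
      · exact ⟨N.minFac, Nat.minFac_prime (by omega), N.minFac_dvd, by
          have := (Nat.minFac_prime (show N ≠ 1 by omega)).two_le
          show N ≤ N.minFac * 36
          omega⟩
      · norm_num at hN
        interval_cases N
        · exact ⟨73, by norm_num, by norm_num, by decide⟩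
        · exact ⟨37, by norm_num, by norm_num, by decide⟩
        · exact ⟨5, by norm_num, by norm_num, by decide⟩
        · exact ⟨19, by norm_num, by norm_num, by decide⟩
        · exact ⟨7, by norm_num, by norm_num, by decide⟩
        · exact ⟨3, by norm_num, by norm_num, by decide⟩
        · exact ⟨79, by norm_num, by norm_num, by decide⟩
        · exact ⟨5, by norm_num, by norm_num, by decide⟩
        · exact ⟨3, by norm_num, by norm_num, by decide⟩
  · refine ⟨N.minFac, Nat.minFac_prime (by omega), N.minFac_dvd, ?_⟩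
    have h2 := (Nat.minFac_prime (show N ≠ 1 by omega)).two_le
    have hfac : n ^ 2 ≤ n.factorial := by
      obtain ⟨m, rfl⟩ : ∃ m, n = m + 4 := ⟨n - 4, by omega⟩
      clear hn h hN h16
      induction m with
      | zero => decide
      | succ j ih =>
        rw [show j + 1 + 4 = (j + 4) + 1 from by omega, Nat.factorial_succ]
        calc (j + 4 + 1) ^ 2 = (j + 4 + 1) * (j + 4 + 1) := sq _
          _ ≤ (j + 4 + 1) * (j + 4).factorial := Nat.mul_le_mul_left _ (by nlinarith)
    calc N ≤ n ^ 4 := hN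
      _ ≤ (n.factorial) ^ 2 := by
          rw [show n ^ 4 = (n ^ 2) ^ 2 by ring]; exact Nat.pow_le_pow_left hfac 2
      _ ≤ N.minFac * (n.factorial) ^ 2 := Nat.le_mul_of_pos_left _ (by omega)

theorem small_or_abelian {Z : Subgroup G} (hZ : Z ≤ Subgroup.center G) (l : Z →* ℂˣ)
    (hl : Function.Injective l) {n : ℕ} (hn : 2 ≤ n) (hdeg : DegLe Z l n) :
    (∃ x : G, x ∉ Subgroup.center G ∧
      (Subgroup.centralizer ({x} : Set G)).index ≤ n ^ 2) ∨
    ∃ B : Subgroup G, Subgroup.center G ≤ B ∧ (∀ a ∈ B, ∀ b ∈ B, a * b = b * a) ∧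
      B.index ≤ (n.factorial) ^ 2 := by
  rw [or_iff_not_imp_left]
  intro hx
  push Not at hx
  set W := Subgroup.center G with hWdef
  have hN := W.index_mul_card
  rcases Nat.lt_or_ge 1 W.index with h1 | h1
  swap
  · refine ⟨⊤, le_top, fun a _ b _ => ?_, by
      rw [Subgroup.index_top]; exact Nat.one_le_pow _ _ n.factorial_pos⟩
    have hWtop : W = ⊤ := Subgroup.index_eq_one.mp (le_antisymm h1
      (Nat.one_le_iff_ne_zero.mpr Subgroup.index_ne_zero_of_finite))
    have ha : a ∈ W := hWtop ▸ Subgroup.mem_top a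
    exact (Subgroup.mem_center_iff.mp ha b).symm
  have hWpos : 0 < Nat.card W := Nat.card_pos
  have hN4 : W.index ≤ n ^ 4 := by
    have h := count_classes hZ l hl (c := n ^ 2 + 1) hdeg fun g hg => hx g hg
    rw [← hN] at h
    refine Nat.le_of_mul_le_mul_right ?_ hWpos
    nlinarith
  have h16 : n = 2 → W.index ≠ 16 := by
    rintro rfl h16
    have h := count_classes hZ l hl (c := 8) hdeg fun g hg => by
      have hlt := hx g hg
      have hdvd := Subgroup.index_dvd_of_le (le_centralizer_singleton_center g)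
      rw [← hWdef, h16] at hdvd
      have := Nat.le_of_dvd (by norm_num) hdvd
      norm_num at hlt
      interval_cases hi : (Subgroup.centralizer ({g} : Set G)).index <;> omega
    rw [← hWdef, ← hN, h16] at h
    omega
  obtain ⟨p, hp, hpd, hle⟩ := prime_choice hn h1 hN4 h16
  haveI := Fact.mk hp
  obtain ⟨y, hy⟩ := exists_prime_orderOf_dvd_card' (G := G ⧸ W) p
    (by rwa [← Subgroup.index_eq_card])
  refine ⟨(Subgroup.zpowers y).comap (QuotientGroup.mk' W), fun w hw => ?_, ?_, ?_⟩
  · rw [Subgroup.mem_comap, QuotientGroup.mk'_apply, (QuotientGroup.eq_one_iff w).mpr hw]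
    exact one_mem _
  · obtain ⟨y₀, rfl⟩ := QuotientGroup.mk_surjective y
    intro a ha b hb
    have key : ∀ a, a ∈ (Subgroup.zpowers (y₀ : G ⧸ W)).comap (QuotientGroup.mk' W) →
        ∃ i : ℤ, ∃ w ∈ W, a = y₀ ^ i * w := by
      intro a ha
      obtain ⟨i, hi⟩ := Subgroup.mem_zpowers_iff.mp ha
      exact ⟨i, (y₀ ^ i)⁻¹ * a, QuotientGroup.eq.mp (by rw [QuotientGroup.mk_zpow]; exact hi),
        (mul_inv_cancel_left _ _).symm⟩
    obtain ⟨i, w, hw, rfl⟩ := key a ha
    obtain ⟨j, v, hv, rfl⟩ := key b hb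
    rw [hWdef, Subgroup.mem_center_iff] at hw hv
    have hij := (Commute.refl y₀).zpow_zpow i j
    exact ((hij.mul_right (Commute.symm (hv _).symm)).mul_left
      (Commute.mul_right (hw _).symm (hv w).symm.symm)).eq
  · rw [Subgroup.index_comap_of_surjective _ (QuotientGroup.mk'_surjective W)]
    have h := (Subgroup.zpowers y).index_mul_card
    rw [Nat.card_zpowers, hy, ← Subgroup.index_eq_card] at h
    refine Nat.le_of_mul_le_mul_right ?_ hp.pos
    rw [h, mul_comm]
    exact hle

theorem mem_of_indFun_eq [Fintype G] (H : Subgroup G) [Fintype H] {ψ : H → ℂ}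
    (hψ : IsCharacter H ψ) (h1 : 0 < (ψ 1).re) {c : G}
    (h : indFun H ψ c = indFun H ψ 1) : c ∈ H := by
  by_contra hc
  rw [indFun_apply_one] at h
  simp only [indFun] at h
  classical
  have hb : ∀ y : G, ‖extendByZero H ψ (y⁻¹ * c * y)‖ ≤ if y = 1 then 0 else (ψ 1).re := by
    intro y
    split_ifs with hy
    · subst hy
      rw [extendByZero_of_notMem H ψ (by simpa using hc), norm_zero]
    · by_cases hm : y⁻¹ * c * y ∈ H
      · rw [extendByZero_of_mem H ψ hm]; exact hψ.norm_le _
      · rw [extendByZero_of_notMem H ψ hm, norm_zero]; exact h1.le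
  have hH : (Nat.card H : ℂ) ≠ 0 := Nat.cast_ne_zero.mpr Nat.card_pos.ne'
  rw [inv_mul_eq_iff_eq_mul₀ hH, ← mul_assoc, ← Nat.cast_mul, Subgroup.card_mul_index] at h
  obtain ⟨d, hd⟩ := hψ.exists_degree
  rw [hd, Complex.natCast_re] at hb h1
  have hle := (_root_.norm_sum_le Finset.univ fun y => extendByZero H ψ (y⁻¹ * c * y)).trans
    (Finset.sum_le_sum fun y _ => hb y)
  rw [h, hd, norm_mul, Complex.norm_natCast, Complex.norm_natCast, Finset.sum_ite,
    Finset.sum_const_zero, zero_add, Finset.sum_const, nsmul_eq_mul, Finset.filter_ne',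
    Finset.card_erase_of_mem (Finset.mem_univ _), Finset.card_univ, ← Nat.card_eq_fintype_card,
    Nat.cast_sub (show 1 ≤ Nat.card G from Nat.card_pos)] at hle
  push_cast at hle
  nlinarith

/-- If some character over `l` of the centraliser of `x` has full degree `n`, then the conjugates of
`x` centralise `x` and every extension of that character is scalar at all of them. -/
theorem big_centralizer_char [Fintype G] {Z : Subgroup G} (hZ : Z ≤ Subgroup.center G)
    (l : Z →* ℂˣ) {n : ℕ} (hdeg : DegLe Z l n) (x : G) (H : Subgroup G) [Fintype H]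
    (hH : H = Subgroup.centralizer ({x} : Set G)) {ψ : H → ℂ} (hψ : IsIrrCharacter H ψ)
    (hψl : ∀ (z : Z) (hz : (z : G) ∈ H), ψ ⟨z, hz⟩ = (l z : ℂ) * ψ 1)
    (hbig : n ≤ charDegree ψ) :
    (∀ g : G, g * x * g⁻¹ ∈ H) ∧ charDegree ψ = n ∧
      ∃ χ : G → ℂ, IsIrrCharacter G χ ∧ (fun h : H => χ h) = ψ ∧
        ∃ μ : ℂ, ‖μ‖ = 1 ∧ χ x = μ * χ 1 := by
  have hxH : x ∈ H := by
    rw [hH, Subgroup.mem_centralizer_iff]; rintro y rfl; rfl
  obtain ⟨μ, hμ, hμv⟩ := exists_scalar_center hψ (z := (⟨x, hxH⟩ : H)) (by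
    rw [Subgroup.mem_center_iff]
    intro h
    have h2 : (h : G) ∈ Subgroup.centralizer ({x} : Set G) := hH ▸ h.2
    rw [Subgroup.mem_centralizer_iff] at h2
    exact Subtype.ext (h2 x rfl).symm)
  have hpsi0 := hψ.charDegree_pos
  have hext : ∀ χ : IrrCharacter G, classInner (indFun H ψ) (χ : G → ℂ) ≠ 0 →
      (fun h : H => (χ : G → ℂ) h) = ψ ∧ charDegree ψ = n ∧
        (χ : G → ℂ) x = μ * (χ : G → ℂ) 1 := by
    intro χ hc
    rw [classInner_indFun H ψ χ.2.isClassFunction, ← classInner_conj_symm] at hc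
    have hc' : classInner (fun h : H => (χ : G → ℂ) h) ψ ≠ 0 := fun e => hc (by rw [e, map_zero])
    have hres := χ.2.isCharacter.comp H.subtype
    have hover : Over Z l (χ : G → ℂ) := by
      obtain ⟨τ, hτ⟩ := exists_over hZ χ.2
      intro z
      have hz : (z : G) ∈ H := hH ▸ le_centralizer_singleton_center x (hZ z.2)
      have h1 := scalar_of_irr_constituent hres hψ hc' (z := (⟨z, hz⟩ : H)) (norm_hom Z τ z) (hτ z)
      rw [hτ z]
      congr 1
      exact mul_right_cancel₀ hψ.apply_one_ne_zero (h1.symm.trans (hψl z hz))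
    have hle := hdeg χ χ.2 hover
    have hge := degree_le_of_constituent hψ hres hc'
    have hd : charDegree ψ ≤ charDegree (χ : G → ℂ) := by
      rw [hψ.apply_one_eq_charDegree, show (χ : G → ℂ) (H.subtype 1) = _ from
        χ.2.apply_one_eq_charDegree, Complex.natCast_re, Complex.natCast_re] at hge
      exact_mod_cast hge
    have hdeq : charDegree ψ = charDegree (χ : G → ℂ) := by omega
    have he : (fun h : H => (χ : G → ℂ) h) = ψ := eq_of_constituent_of_degree hres hψ hc' (by
      rw [hψ.apply_one_eq_charDegree, hdeq]; exact χ.2.apply_one_eq_charDegree)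
    refine ⟨he, by omega, ?_⟩
    have := congrFun he ⟨x, hxH⟩
    dsimp only at this
    rw [this, hμv, ← congrFun he 1]
    rfl
  have hind := isCharacter_indFun H hψ.isCharacter
  obtain ⟨χ₀, hχ₀⟩ := exists_constituent hind (by
    rw [indFun_apply_one]
    exact mul_ne_zero (Nat.cast_ne_zero.mpr Subgroup.index_ne_zero_of_finite)
      hψ.apply_one_ne_zero)
  obtain ⟨he, hn', hx⟩ := hext χ₀ hχ₀
  refine ⟨fun g => ?_, hn', χ₀, χ₀.2, he, μ, hμ, hx⟩
  have hker : indFun H ψ (g * x * g⁻¹ * x⁻¹) = indFun H ψ 1 := by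
    rw [eq_sum_classInner hind.isClassFunction]
    simp only [Finset.sum_apply, Pi.smul_apply, smul_eq_mul]
    refine Finset.sum_congr rfl fun χ _ => ?_
    by_cases h0 : classInner (indFun H ψ) (χ : G → ℂ) = 0
    · rw [h0, zero_mul, zero_mul]
    · obtain ⟨-, -, hxv⟩ := hext χ h0
      have hχ := χ.2.isCharacter
      have hxi : (χ : G → ℂ) x⁻¹ = conj μ * (χ : G → ℂ) 1 := by
        rw [hχ.apply_inv, hxv, map_mul, χ.2.apply_one_eq_charDegree, Complex.conj_natCast]
      have hgx : (χ : G → ℂ) (g * x * g⁻¹) = μ * (χ : G → ℂ) 1 := by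
        rw [hχ.conj_invariant, hxv]
      rw [apply_mul_of_scalar hχ hμ hgx, hxi, ← mul_assoc μ, Complex.mul_conj,
        Complex.normSq_eq_norm_sq, hμ, one_pow, Complex.ofReal_one, one_mul]
  have hmem := mem_of_indFun_eq H hψ.isCharacter (by
    rw [hψ.apply_one_eq_charDegree, Complex.natCast_re]; exact_mod_cast hpsi0) hker
  simpa using mul_mem hmem hxH

end Cfsg.Lib.BDeg
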