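import Cfsg.Agent.Lib.BDeg.Count
import Cfsg.Agent.Lib.Char.Clifford

/-!
# Extending a central linear character to a subgroup of bounded index
-/

set_option autoImplicit false
set_option linter.unusedSectionVars false
set_option linter.style.haveILetI false

namespace Cfsg.Lib.BDeg

open Cfsg Cfsg.Lib.Char
open scoped ComplexConjugate

universe u

/-- A central faithful `l` with all characters over it of degree at most `n` extends to a subgroup
of index at most `(n!)²`. -/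
def ExtStmt (n : ℕ) : Prop :=
  ∀ (G : Type u) [Group G] [Finite G] (Z : Subgroup G) (l : Z →* ℂˣ),
    Z ≤ Subgroup.center G → Function.Injective l → DegLe Z l n →
      ∃ (B : Subgroup G) (β : B →* ℂˣ), Z ≤ B ∧ B.index ≤ n.factorial ^ 2 ∧
        ∀ (z : Z) (hz : (z : G) ∈ B), β ⟨z, hz⟩ = l z

variable {G : Type u} [Group G] [Finite G]

theorem subgroupOf_le_center {Z B : Subgroup G} (hZ : Z ≤ Subgroup.center G) :
    Z.subgroupOf B ≤ Subgroup.center B := fun z hz => Subgroup.mem_center_iff.mpr fun h =>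
  Subtype.ext (Subgroup.mem_center_iff.mp (hZ (Subgroup.mem_subgroupOf.mp hz)) h)

theorem exists_ext_of_comm {Z B : Subgroup G} (hZ : Z ≤ Subgroup.center G) (hZB : Z ≤ B)
    (hc : ∀ a ∈ B, ∀ b ∈ B, a * b = b * a) (l : Z →* ℂˣ) :
    ∃ β : B →* ℂˣ, ∀ (z : Z) (hz : (z : G) ∈ B), β ⟨z, hz⟩ = l z := by
  obtain ⟨χ, hχ, ho⟩ := exists_irr_over (subgroupOf_le_center (B := B) hZ)
    (l.comp (Subgroup.subgroupOfEquivOfLe hZB).toMonoidHom)
  obtain ⟨β, rfl⟩ := exists_hom_of_degree_one hχ.isCharacter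
    (degree_eq_one_of_comm (fun a b : B => Subtype.ext (hc a a.2 b b.2)) hχ)
  refine ⟨β, fun z hz => Units.ext ?_⟩
  have h := ho ⟨⟨z, hz⟩, Subgroup.mem_subgroupOf.mpr z.2⟩
  simp only [map_one, Units.val_one, mul_one] at h
  exact h

theorem over_of_res_constituent [Fintype G] {Z : Subgroup G} (hZ : Z ≤ Subgroup.center G)
    (l : Z →* ℂˣ) {B : Subgroup G} [Fintype B] (hZB : Z ≤ B) {χ : G → ℂ}
    (hχ : IsIrrCharacter G χ) {φ : B → ℂ} (hφ : IsIrrCharacter B φ)
    (hover : ∀ (z : Z) (hz : (z : G) ∈ B), φ ⟨z, hz⟩ = (l z : ℂ) * φ 1)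
    (hc : classInner (fun b : B => χ b) φ ≠ 0) : Over Z l χ := by
  obtain ⟨τ, hτ⟩ := exists_over hZ hχ
  intro z
  have h1 := scalar_of_irr_constituent (hχ.isCharacter.comp B.subtype) hφ hc
    (z := (⟨z, hZB z.2⟩ : B)) (norm_hom Z τ z) (hτ z)
  rw [hτ z]
  congr 1
  exact mul_right_cancel₀ hφ.apply_one_ne_zero (h1.symm.trans (hover z _))

/-- Multiplicity times orbit length is bounded by the largest degree over `l`. -/
theorem mult_mul_index_le [Fintype G] {Z : Subgroup G} (hZ : Z ≤ Subgroup.center G)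
    (l : Z →* ℂˣ) {n : ℕ} (hdeg : DegLe Z l n) (A : Subgroup G) [A.Normal] [Fintype A]
    (B : Subgroup G) [Fintype B] (hZB : Z ≤ B) (hAB : A ≤ B) {φ : B → ℂ}
    (hφ : IsIrrCharacter B φ)
    (hover : ∀ (z : Z) (hz : (z : G) ∈ B), φ ⟨z, hz⟩ = (l z : ℂ) * φ 1)
    (ν : A →* ℂˣ) {f : ℕ}
    (hf : classInner (fun a : A => φ ⟨a, hAB a.2⟩) (fun a : A => (ν a : ℂ)) = f) :
    f * (inertia A (fun a : A => (ν a : ℂ))).index ≤ n := by
  rcases Nat.eq_zero_or_pos f with rfl | hf0
  · simp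
  have hind := isCharacter_indFun B hφ.isCharacter
  obtain ⟨χ, hχ⟩ := exists_constituent hind (by
    rw [indFun_apply_one]
    exact mul_ne_zero (Nat.cast_ne_zero.mpr Subgroup.index_ne_zero_of_finite)
      hφ.apply_one_ne_zero)
  rw [classInner_indFun B φ χ.2.isClassFunction, ← classInner_conj_symm] at hχ
  have hc : classInner (fun b : B => (χ : G → ℂ) b) φ ≠ 0 := fun e => hχ (by rw [e, map_zero])
  have hle := hdeg χ χ.2 (over_of_res_constituent hZ l hZB χ.2 hφ hover hc)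
  have hsub := isCharacter_sub_constituent (χ.2.isCharacter.comp B.subtype) hφ hc
  have hνc := (isIrrCharacter_linear ν).isCharacter
  have hnn := classInner_re_nonneg (hsub.comp (Subgroup.inclusion hAB)) hνc
  rw [show (fun a : A => ((fun b : B => (χ : G → ℂ) (B.subtype b)) - φ) (Subgroup.inclusion hAB a)) =
    (fun a : A => (χ : G → ℂ) a) - (fun a : A => φ ⟨a, hAB a.2⟩) from rfl, classInner_sub_left,
    hf] at hnn
  obtain ⟨e, he⟩ := (χ.2.isCharacter.comp A.subtype).exists_nat_classInner hνc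
  have he' : classInner (fun a : A => (χ : G → ℂ) a) (fun a : A => (ν a : ℂ)) = e := he
  rw [he'] at hnn
  have hfe : f ≤ e := by
    simp only [Complex.sub_re, Complex.natCast_re, sub_nonneg] at hnn
    exact_mod_cast hnn
  have hd := clifford_degree A χ.2 (isIrrCharacter_linear ν) (by
    rw [he']; exact Nat.cast_ne_zero.mpr (by omega))
  rw [he', χ.2.apply_one_eq_charDegree] at hd
  simp only [map_one, Units.val_one, mul_one] at hd
  norm_cast at hd
  calc f * _ ≤ e * _ := Nat.mul_le_mul_right _ hfe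
    _ = _ := hd.symm
    _ ≤ n := hle

theorem scalar_constituent_eq {A : Subgroup G} [Fintype A] {φ : A → ℂ} (hφ : IsCharacter A φ)
    (μ : A →* ℂˣ) (hscal : ∀ a, φ a = (μ a : ℂ) * φ 1) :
    classInner φ (fun a : A => (μ a : ℂ)) = φ 1 := by
  have h : φ = φ 1 • fun a : A => (μ a : ℂ) := funext fun a => by
    rw [hscal, Pi.smul_apply, smul_eq_mul, mul_comm]
  conv_lhs => rw [h]
  rw [classInner_smul_left, classInner_irr_self (isIrrCharacter_linear μ), mul_one]

/-- The normal subgroup generated by `x` and the centre. -/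
def conjSpan (x : G) : Subgroup G := Subgroup.normalClosure {x} ⊔ Subgroup.center G

instance conjSpan_normal (x : G) : (conjSpan x).Normal := by unfold conjSpan; infer_instance

theorem mem_conjSpan (x : G) : x ∈ conjSpan x :=
  le_sup_left (a := Subgroup.normalClosure {x})
    (Subgroup.subset_normalClosure (Set.mem_singleton x))

theorem center_le_conjSpan (x : G) : Subgroup.center G ≤ conjSpan x := le_sup_right

theorem conjSpan_le_centralizer {x : G}
    (h : ∀ g : G, g * x * g⁻¹ ∈ Subgroup.centralizer ({x} : Set G)) :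
    conjSpan x ≤ Subgroup.centralizer ({x} : Set G) := by
  refine sup_le ?_ (le_centralizer_singleton_center x)
  rw [Subgroup.normalClosure, Subgroup.closure_le]
  intro y hy
  obtain ⟨a, ha, hay⟩ := Group.mem_conjugatesOfSet_iff.mp hy
  rw [Set.mem_singleton_iff] at ha
  subst ha
  obtain ⟨c, rfl⟩ := isConj_iff.mp hay
  exact h c

theorem conjSpan_comm {x : G}
    (h : ∀ g : G, g * x * g⁻¹ ∈ Subgroup.centralizer ({x} : Set G)) :
    ∀ a ∈ conjSpan x, ∀ b ∈ conjSpan x, a * b = b * a := by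
  intro a ha
  suffices hs : conjSpan x ≤ Subgroup.centralizer ({a} : Set G) by
    intro b hb
    exact (Subgroup.mem_centralizer_iff.mp (hs hb) a rfl)
  refine sup_le ?_ (le_centralizer_singleton_center a)
  rw [Subgroup.normalClosure, Subgroup.closure_le]
  intro y hy
  obtain ⟨z, hz, hzy⟩ := Group.mem_conjugatesOfSet_iff.mp hy
  rw [Set.mem_singleton_iff] at hz
  subst hz
  obtain ⟨c, rfl⟩ := isConj_iff.mp hzy
  rw [SetLike.mem_coe, Subgroup.mem_centralizer_iff]
  rintro t rfl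
  have h1 := Subgroup.mem_centralizer_iff.mp
    (conjSpan_le_centralizer h ((conjSpan_normal z).conj_mem' _ ha c)) z rfl
  calc t * (c * z * c⁻¹) = c * ((c⁻¹ * t * c) * z) * c⁻¹ := by group
    _ = c * (z * (c⁻¹ * t * c)) * c⁻¹ := by rw [h1]
    _ = c * z * c⁻¹ * t := by group

theorem ext_invariant {d : ℕ} (IH : ExtStmt.{u} d) {T : Type u} [Group T] [Finite T]
    (A : Subgroup T) [hA : A.Normal] (l : A →* ℂˣ)
    (hinv : ∀ (t : T) (a : A), l ⟨t * a * t⁻¹, hA.conj_mem a a.2 t⟩ = l a)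
    (hdeg : DegLe A l d) :
    ∃ (B : Subgroup T) (β : B →* ℂˣ), A ≤ B ∧ B.index ≤ d.factorial ^ 2 ∧
      ∀ (a : A) (ha : (a : T) ∈ B), β ⟨a, ha⟩ = l a := by
  set K := l.ker.map A.subtype with hK
  haveI hKn : K.Normal := ⟨by
    rintro k ⟨a, ha, rfl⟩ t
    exact ⟨⟨t * a * t⁻¹, hA.conj_mem a a.2 t⟩,
      MonoidHom.mem_ker.mpr ((hinv t a).trans (MonoidHom.mem_ker.mp ha)), rfl⟩⟩
  set π := QuotientGroup.mk' K with hπ
  set f := π.subgroupMap A with hf
  have hfs : Function.Surjective f := π.subgroupMap_surjective A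
  have hker : f.ker ≤ l.ker := by
    intro a ha
    have h1 : ((a : T) : T ⧸ K) = 1 := congrArg Subtype.val (MonoidHom.mem_ker.mp ha)
    obtain ⟨b, hb, hba⟩ := (QuotientGroup.eq_one_iff (a : T)).mp h1
    rwa [show a = b from Subtype.ext hba.symm]
  set l' : A.map π →* ℂˣ :=
    f.liftOfRightInverse _ (Function.rightInverse_surjInv hfs) ⟨l, hker⟩ with hl'
  have hl'v : ∀ a : A, l' (f a) = l a := fun a =>
    f.liftOfRightInverse_comp_apply _ (Function.rightInverse_surjInv hfs) ⟨l, hker⟩ a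
  have hZc : A.map π ≤ Subgroup.center (T ⧸ K) := by
    rintro _ ⟨a, ha, rfl⟩
    rw [Subgroup.mem_center_iff]
    intro q
    obtain ⟨t, rfl⟩ := QuotientGroup.mk_surjective q
    rw [hπ, QuotientGroup.mk'_apply, ← QuotientGroup.mk_mul, ← QuotientGroup.mk_mul,
      QuotientGroup.eq]
    refine ⟨⟨(t * a)⁻¹ * (a * t), ?_⟩, MonoidHom.mem_ker.mpr ?_, rfl⟩
    · rw [show (t * a)⁻¹ * (a * t) = a⁻¹ * (t⁻¹ * a * t) by group]
      exact mul_mem (inv_mem ha) (hA.conj_mem' a ha t)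
    · have h1 := hinv t⁻¹ ⟨a, ha⟩
      rw [show (⟨(t * a)⁻¹ * (a * t), _⟩ : A) =
        (⟨a, ha⟩ : A)⁻¹ * ⟨t⁻¹ * a * t⁻¹⁻¹, hA.conj_mem a ha t⁻¹⟩ from Subtype.ext (by
          simp [mul_assoc]), map_mul, map_inv, h1, inv_mul_cancel]
  have hinj : Function.Injective l' := by
    rw [injective_iff_map_eq_one]
    intro z hz
    obtain ⟨a, rfl⟩ := hfs z
    rw [hl'v] at hz
    exact Subtype.ext ((QuotientGroup.eq_one_iff (a : T)).mpr ⟨a, MonoidHom.mem_ker.mpr hz, rfl⟩)
  have hdeg' : DegLe (A.map π) l' d := by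
    intro χ hχ ho
    have h := hdeg _ (isIrrCharacter_inflate K hχ) fun a => by
      have h2 := ho (f a)
      rw [hl'v] at h2
      exact h2
    exact h
  obtain ⟨B, β, hAB, hidx, hβ⟩ := IH (T ⧸ K) (A.map π) l' hZc hinj hdeg'
  refine ⟨B.comap π, β.comp (π.subgroupComap B),
    Subgroup.map_le_iff_le_comap.mp hAB, ?_, fun a ha => ?_⟩
  · rw [Subgroup.index_comap_of_surjective _ (QuotientGroup.mk'_surjective K)]
    exact hidx
  · exact (hβ (f a) ha).trans (hl'v a)

theorem extStmt_all : ∀ n : ℕ, ExtStmt.{u} n := by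
  intro n
  induction n using Nat.strong_induction_on with
  | _ n IH => ?_
  intro G _ _ Z l hZ hl hdeg
  classical
  haveI := Fintype.ofFinite G
  haveI : Fintype Z := Fintype.ofFinite _
  obtain ⟨χ₀, hχ₀, ho₀⟩ := exists_irr_over hZ l
  have h0 := lt_of_lt_of_le hχ₀.charDegree_pos (hdeg χ₀ hχ₀ ho₀)
  rcases Nat.lt_or_ge n 2 with hn | hn
  · obtain rfl : n = 1 := by omega
    have h1 : χ₀ 1 = 1 := by
      rw [hχ₀.apply_one_eq_charDegree, show charDegree χ₀ = 1 from
        le_antisymm (hdeg χ₀ hχ₀ ho₀) hχ₀.charDegree_pos, Nat.cast_one]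
    obtain ⟨β, rfl⟩ := exists_hom_of_degree_one hχ₀.isCharacter h1
    refine ⟨⊤, β.comp (⊤ : Subgroup G).subtype, le_top, by simp, fun z hz => Units.ext ?_⟩
    have := ho₀ z
    simp only [map_one, Units.val_one, mul_one] at this
    exact this
  rcases small_or_abelian hZ l hl hn hdeg with ⟨x, hx, hxi⟩ | ⟨B, hWB, hBc, hBi⟩
  swap
  · obtain ⟨β, hβ⟩ := exists_ext_of_comm hZ (hZ.trans hWB) hBc l
    exact ⟨B, β, hZ.trans hWB, hBi, hβ⟩
  set H := Subgroup.centralizer ({x} : Set G) with hH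
  haveI : Fintype H := Fintype.ofFinite _
  have hZH : Z ≤ H := hZ.trans (le_centralizer_singleton_center x)
  set lH := l.comp (Subgroup.subgroupOfEquivOfLe hZH).toMonoidHom with hlH
  by_cases hgood : DegLe (Z.subgroupOf H) lH (n - 1)
  · have hinjH : Function.Injective lH :=
      hl.comp (Subgroup.subgroupOfEquivOfLe hZH).injective
    obtain ⟨B, β, hZB, hidx, hβ⟩ := IH (n - 1) (by omega) H (Z.subgroupOf H) lH
      (subgroupOf_le_center hZ) hinjH hgood
    set e := B.equivMapOfInjective H.subtype H.subtype_injective with he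
    refine ⟨B.map H.subtype, β.comp e.symm.toMonoidHom, fun z hz => ?_, ?_, fun z hz => ?_⟩
    · exact ⟨⟨z, hZH hz⟩, hZB (Subgroup.mem_subgroupOf.mpr hz), rfl⟩
    · rw [Subgroup.index_map_subtype]
      calc B.index * H.index ≤ (Nat.factorial (n - 1)) ^ 2 * n ^ 2 := Nat.mul_le_mul hidx hxi
        _ = n.factorial ^ 2 := by
          rw [← mul_pow, mul_comm, Nat.mul_factorial_pred (by omega)]
    · have hzB : (⟨z, hZH z.2⟩ : H) ∈ B := hZB (Subgroup.mem_subgroupOf.mpr z.2)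
      have h1 : e.symm ⟨z, hz⟩ = ⟨⟨z, hZH z.2⟩, hzB⟩ :=
        e.injective (by rw [MulEquiv.apply_symm_apply]; rfl)
      rw [MonoidHom.comp_apply, MulEquiv.coe_toMonoidHom, h1]
      exact hβ ⟨⟨z, hZH z.2⟩, Subgroup.mem_subgroupOf.mpr z.2⟩ hzB
  simp only [DegLe, not_forall, not_le] at hgood
  obtain ⟨ψ, hψ, hψl, hψd⟩ := hgood
  obtain ⟨hcomm, -⟩ := big_centralizer_char hZ l hdeg x H rfl hψ
    (fun z hz => hψl ⟨⟨z, hz⟩, Subgroup.mem_subgroupOf.mpr z.2⟩) (by omega)
  set A := conjSpan x with hAdef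
  haveI : Fintype A := Fintype.ofFinite _
  have hZA : Z ≤ A := hZ.trans (center_le_conjSpan x)
  have hAc : ∀ a ∈ A, ∀ b ∈ A, a * b = b * a := conjSpan_comm hcomm
  obtain ⟨g, hg⟩ : ∃ g : G, g * x * g⁻¹ * x⁻¹ ≠ 1 := by
    by_contra hcon
    push Not at hcon
    exact hx (Subgroup.mem_center_iff.mpr fun g => by
      have := hcon g
      rwa [mul_inv_eq_one, mul_inv_eq_iff_eq_mul] at this)
  have hxA : x ∈ A := mem_conjSpan x
  have hgxA : g * x * g⁻¹ ∈ A := (conjSpan_normal x).conj_mem x hxA g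
  have hcA : g * x * g⁻¹ * x⁻¹ ∈ A := mul_mem hgxA (inv_mem hxA)
  obtain ⟨χA, hχA, hoA, hneA⟩ := exists_over_apply_ne (subgroupOf_le_center (B := A) hZ)
    (l.comp (Subgroup.subgroupOfEquivOfLe hZA).toMonoidHom)
    (hl.comp (Subgroup.subgroupOfEquivOfLe hZA).injective)
    (c := (⟨_, hcA⟩ : A)) (fun h => hg (congrArg Subtype.val h))
  obtain ⟨ν, rfl⟩ := exists_hom_of_degree_one hχA.isCharacter
    (degree_eq_one_of_comm (fun a b : A => Subtype.ext (hAc a a.2 b b.2)) hχA)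
  have hνZ : ∀ (z : Z) (hz : (z : G) ∈ A), ν ⟨z, hz⟩ = l z := fun z hz => Units.ext (by
    have h := hoA ⟨⟨z, hz⟩, Subgroup.mem_subgroupOf.mpr z.2⟩
    simp only [map_one, Units.val_one, mul_one] at h
    exact h)
  set T := inertia A (fun a : A => (ν a : ℂ)) with hT
  have hm : 2 ≤ T.index := by
    rcases Nat.lt_or_ge T.index 2 with h | h
    · exfalso
      have hTop : T = ⊤ := Subgroup.index_eq_one.mp (by
        have := Subgroup.index_ne_zero_of_finite (H := T); omega)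
      have h1 := (mem_inertia_iff A).mp (show g ∈ T by rw [hTop]; exact Subgroup.mem_top g)
        ⟨x, hxA⟩
      refine hneA ?_
      rw [show (⟨_, hcA⟩ : A) = ⟨g * x * g⁻¹, hgxA⟩ * (⟨x, hxA⟩ : A)⁻¹ from rfl]
      simp only [map_mul, map_inv, map_one, Units.val_mul, Units.val_one]
      rw [show (ν ⟨g * x * g⁻¹, hgxA⟩ : ℂ) = (ν ⟨x, hxA⟩ : ℂ) from h1,
        Units.mul_inv]
    · exact h
  have hAT : A ≤ T := fun a ha => (mem_inertia_iff A).mpr fun b => by
    congr 2
    apply Subtype.ext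
    show a * b * a⁻¹ = b
    rw [hAc a ha b b.2, mul_inv_cancel_right]
  haveI : Fintype T := Fintype.ofFinite _
  set νT := ν.comp (Subgroup.subgroupOfEquivOfLe hAT).toMonoidHom with hνT
  have hdegT : DegLe (A.subgroupOf T) νT (n / T.index) := by
    intro φ hφ ho
    rw [Nat.le_div_iff_mul_le (by omega)]
    refine mult_mul_index_le hZ l hdeg A T (hZA.trans hAT) hAT hφ (fun z hz => ?_) ν ?_
    · have h := ho ⟨⟨z, hz⟩, Subgroup.mem_subgroupOf.mpr (hZA z.2)⟩
      rw [← hνZ z (hZA z.2)]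
      exact h
    · rw [← hφ.apply_one_eq_charDegree]
      exact scalar_constituent_eq (hφ.isCharacter.comp (Subgroup.inclusion hAT)) ν
        fun a => ho ⟨⟨a, hAT a.2⟩, Subgroup.mem_subgroupOf.mpr a.2⟩
  haveI : (A.subgroupOf T).Normal := (conjSpan_normal x).subgroupOf T
  obtain ⟨B, β, hAB, hidx, hβ⟩ := ext_invariant (IH (n / T.index) (Nat.div_lt_self (by omega) hm))
    (A.subgroupOf T) νT (fun t a => Units.ext ((mem_inertia_iff A).mp t.2
      ⟨(a : T), Subgroup.mem_subgroupOf.mp a.2⟩)) hdegT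
  set e := B.equivMapOfInjective T.subtype T.subtype_injective with he
  refine ⟨B.map T.subtype, β.comp e.symm.toMonoidHom, fun z hz => ?_, ?_, fun z hz => ?_⟩
  · exact ⟨⟨z, hAT (hZA hz)⟩, hAB (Subgroup.mem_subgroupOf.mpr (hZA hz)), rfl⟩
  · rw [Subgroup.index_map_subtype]
    have hd : n / T.index ≤ n - 1 := by
      have := Nat.div_lt_self (show 0 < n by omega) hm; omega
    have hmn : T.index ≤ n := by
      obtain ⟨χA', hχ', -⟩ := exists_irr_over (subgroupOf_le_center (B := A) hZ)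
        (l.comp (Subgroup.subgroupOfEquivOfLe hZA).toMonoidHom)
      have := mult_mul_index_le hZ l hdeg A A hZA le_rfl (isIrrCharacter_linear ν)
        (fun z hz => by simp [hνZ z hz]) ν (f := 1)
        (by rw [Nat.cast_one]; exact classInner_irr_self (isIrrCharacter_linear ν))
      rwa [one_mul] at this
    calc B.index * T.index ≤ (Nat.factorial (n / T.index)) ^ 2 * n :=
          Nat.mul_le_mul hidx hmn
      _ ≤ (Nat.factorial (n - 1)) ^ 2 * n ^ 2 :=
          Nat.mul_le_mul (Nat.pow_le_pow_left (Nat.factorial_le hd) 2) (Nat.le_self_pow two_ne_zero n)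
      _ = n.factorial ^ 2 := by rw [← mul_pow, mul_comm, Nat.mul_factorial_pred (by omega)]
  · have hzT : (z : G) ∈ T := hAT (hZA z.2)
    have hzB : (⟨z, hzT⟩ : T) ∈ B := hAB (Subgroup.mem_subgroupOf.mpr (hZA z.2))
    have h1 : e.symm ⟨z, hz⟩ = ⟨⟨z, hzT⟩, hzB⟩ :=
      e.injective (by rw [MulEquiv.apply_symm_apply]; rfl)
    rw [MonoidHom.comp_apply, MulEquiv.coe_toMonoidHom, h1]
    exact (hβ ⟨⟨z, hzT⟩, Subgroup.mem_subgroupOf.mpr (hZA z.2)⟩ hzB).trans (hνZ z (hZA z.2))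

end Cfsg.Lib.BDeg
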