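import Mathlib.Data.Nat.Choose.Basic
import Mathlib.Data.Fintype.Order
import Cfsg.Agent.Lib.BDeg.Twisted

/-!
# Groups with bounded character degrees have abelian subgroups of bounded index
-/

set_option autoImplicit false
set_option linter.unusedSectionVars false
set_option linter.style.haveILetI false

namespace Cfsg.Lib.BDeg

open Cfsg Cfsg.Lib.Char
open scoped ComplexConjugate

universe u

variable {G : Type u} [Group G] [Finite G]

theorem degLe_bot {n : ℕ} (hdeg : ∀ χ : G → ℂ, IsIrrCharacter G χ → charDegree χ ≤ n) :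
    DegLe (⊥ : Subgroup G) 1 n := fun χ hχ _ => hdeg χ hχ

theorem over_bot {B : Subgroup G} (φ : B → ℂ) (z : (⊥ : Subgroup G)) (hz : (z : G) ∈ B) :
    φ ⟨z, hz⟩ = (((1 : (⊥ : Subgroup G) →* ℂˣ) z : ℂˣ) : ℂ) * φ 1 := by
  have : (⟨z, hz⟩ : B) = 1 := Subtype.ext (Subgroup.mem_bot.mp z.2)
  rw [this]; simp

/-- The scalars of an irreducible character scalar at `x` on `conjSpan x`. -/
theorem scalar_on_conjSpan {χ : G → ℂ} (hχ : IsIrrCharacter G χ) {x : G} {μ : ℂ} (hμ : ‖μ‖ = 1)
    (hx : χ x = μ * χ 1) {a : G} (ha : a ∈ conjSpan x) :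
    ∃ c : ℂ, ‖c‖ = 1 ∧ χ a = c * χ 1 := by
  haveI := Fintype.ofFinite G
  obtain ⟨m, ρ, hρ, rfl⟩ := hχ
  haveI := hρ
  haveI : Nontrivial (Fin m → ℂ) := ((isIrreducible_iff_submodule ρ).mp hρ).1
  haveI := scalarSubgroup_normal ρ
  have hle : conjSpan x ≤ scalarSubgroup ρ := by
    refine sup_le (Subgroup.normalClosure_le_normal ?_) ?_
    · rintro y rfl
      exact ⟨μ, rep_of_apply ρ hμ hx⟩
    · intro z hz
      obtain ⟨c, hc, hcv⟩ := exists_scalar_center ⟨m, ρ, hρ, rfl⟩ hz
      exact ⟨c, rep_of_apply ρ hc hcv⟩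
  obtain ⟨c, hc⟩ := hle ha
  exact ⟨c, norm_scalar_eq_one ρ hc, by simp [Representation.character, hc, LinearMap.trace_id]⟩

/-- A subgroup centralising `x` is never transitive on a moved orbit of `conjSpan x`. -/
theorem relIndex_lt [Fintype G] {x : G} (K : Subgroup G) [Fintype (conjSpan x)]
    (hK : K ≤ Subgroup.centralizer ({x} : Set G)) (ν : conjSpan x →* ℂˣ)
    (hν : inertia (conjSpan x) (fun a => (ν a : ℂ)) ≠ ⊤) :
    (inertia (conjSpan x) (fun a => (ν a : ℂ))).relIndex K <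
      (inertia (conjSpan x) (fun a => (ν a : ℂ))).index := by
  set T := inertia (conjSpan x) (fun a => (ν a : ℂ)) with hT
  set q : K ⧸ T.subgroupOf K → G ⧸ T := Quotient.lift (fun k : K => ((k : G) : G ⧸ T))
    (fun a b h => by
      have h1 := QuotientGroup.leftRel_apply.mp h
      exact QuotientGroup.eq.mpr (Subgroup.mem_subgroupOf.mp h1)) with hq
  have hinj : Function.Injective q := by
    rintro a b h
    obtain ⟨a, rfl⟩ := QuotientGroup.mk_surjective a
    obtain ⟨b, rfl⟩ := QuotientGroup.mk_surjective b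
    exact QuotientGroup.eq.mpr (Subgroup.mem_subgroupOf.mpr (QuotientGroup.eq.mp h))
  have hle : T.relIndex K ≤ T.index := Nat.card_le_card_of_injective q hinj
  refine lt_of_le_of_ne hle fun heq => hν ?_
  have hsurj : Function.Surjective q :=
    ((Nat.bijective_iff_injective_and_card q).mpr ⟨hinj, heq⟩).2
  have hxA : x ∈ conjSpan x := mem_conjSpan x
  have hval : ∀ g : G, ν ⟨g * x * g⁻¹, (conjSpan_normal x).conj_mem x hxA g⟩ = ν ⟨x, hxA⟩ := by
    intro g
    obtain ⟨k, hk⟩ := hsurj (g⁻¹ : G)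
    obtain ⟨k, rfl⟩ := QuotientGroup.mk_surjective k
    have ht : (k : G)⁻¹ * g⁻¹ ∈ T := QuotientGroup.eq.mp hk
    have ht' := inv_mem ht
    rw [mul_inv_rev, inv_inv, inv_inv] at ht'
    have h1 := (mem_inertia_iff (conjSpan x)).mp ht' ⟨x, hxA⟩
    have hkx := Subgroup.mem_centralizer_iff.mp (hK k.2) x rfl
    refine Units.ext (Eq.trans ?_ h1)
    congr 3
    rw [mul_inv_rev, mul_assoc g (k : G) x, ← hkx]
    group
  rw [eq_top_iff]
  intro g _
  refine (mem_inertia_iff (conjSpan x)).mpr fun a => ?_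
  obtain ⟨a, ha⟩ := a
  have key : ∀ (h : G) (b : G) (hb : b ∈ conjSpan x),
      ν ⟨h * b * h⁻¹, (conjSpan_normal x).conj_mem b hb h⟩ = ν ⟨b, hb⟩ := by
    intro h
    set f : conjSpan x →* ℂˣ := ν.comp (MulAut.conjNormal h).toMonoidHom with hf
    have hS : conjSpan x ≤ (f.eqLocus ν).map (conjSpan x).subtype := by
      refine sup_le ?_ ?_
      · rw [Subgroup.normalClosure, Subgroup.closure_le]
        intro y hy
        obtain ⟨z, hz, hzy⟩ := Group.mem_conjugatesOfSet_iff.mp hy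
        rw [Set.mem_singleton_iff] at hz
        subst hz
        obtain ⟨c, rfl⟩ := isConj_iff.mp hzy
        refine ⟨⟨c * z * c⁻¹, (conjSpan_normal z).conj_mem z hxA c⟩, ?_, rfl⟩
        show ν ⟨h * (c * z * c⁻¹) * h⁻¹, _⟩ = ν ⟨c * z * c⁻¹, _⟩
        rw [hval c]
        refine Eq.trans ?_ (hval (h * c))
        congr 2
        group
      · intro z hz
        refine ⟨⟨z, center_le_conjSpan x hz⟩, ?_, rfl⟩
        show ν ⟨h * z * h⁻¹, _⟩ = ν ⟨z, _⟩
        congr 2
        rw [Subgroup.mem_center_iff.mp hz h, mul_inv_cancel_right]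
    intro b hb
    obtain ⟨c, hc, hcb⟩ := hS hb
    obtain rfl : c = ⟨b, hb⟩ := Subtype.ext hcb
    exact hc
  exact congrArg Units.val (key g a ha)

theorem degree_eq_mult [Fintype G] (A : Subgroup G) [hA : A.Normal] [Fintype A]
    (B : Subgroup G) [Fintype B] (hAB : A ≤ B) {θ : B → ℂ} (hθ : IsIrrCharacter B θ)
    (ν : A →* ℂˣ) {f : ℕ} (hf0 : f ≠ 0)
    (hf : classInner (fun a : A => θ ⟨a, hAB a.2⟩) (fun a : A => (ν a : ℂ)) = f) :
    charDegree θ = f * (inertia A (fun a : A => (ν a : ℂ))).relIndex B := by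
  haveI : (A.subgroupOf B).Normal := hA.subgroupOf B
  haveI := Fintype.ofFinite (A.subgroupOf B)
  set e := Subgroup.subgroupOfEquivOfLe hAB with he
  have h1 : classInner (fun a : A.subgroupOf B => θ a)
      (fun a : A.subgroupOf B => (ν.comp e.toMonoidHom a : ℂ)) = f := by
    rw [← hf, ← classInner_comp_equiv e]
    rfl
  have hd := clifford_degree (A.subgroupOf B) hθ (isIrrCharacter_linear (ν.comp e.toMonoidHom))
    (by rw [h1]; exact_mod_cast hf0)
  have hin : inertia (A.subgroupOf B) (fun a => (ν.comp e.toMonoidHom a : ℂ)) =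
      (inertia A (fun a : A => (ν a : ℂ))).subgroupOf B := by
    ext b
    rw [Subgroup.mem_subgroupOf, mem_inertia_iff, mem_inertia_iff]
    exact ⟨fun h a => h ⟨⟨a, hAB a.2⟩, Subgroup.mem_subgroupOf.mpr a.2⟩,
      fun h a => h ⟨(a : B), Subgroup.mem_subgroupOf.mp a.2⟩⟩
  rw [h1, hθ.apply_one_eq_charDegree, hin] at hd
  simp only [map_one, Units.val_one, mul_one] at hd
  exact_mod_cast hd

theorem exists_linear_constituent [Fintype G] (A : Subgroup G) [Fintype A]
    (hAc : ∀ a ∈ A, ∀ b ∈ A, a * b = b * a) (B : Subgroup G) (hAB : A ≤ B) {θ : B → ℂ}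
    (hθ : IsIrrCharacter B θ) :
    ∃ (ν : A →* ℂˣ) (f : ℕ), f ≠ 0 ∧
      classInner (fun a : A => θ ⟨a, hAB a.2⟩) (fun a : A => (ν a : ℂ)) = f := by
  have hres : IsCharacter A (fun a : A => θ ⟨a, hAB a.2⟩) :=
    hθ.isCharacter.comp (Subgroup.inclusion hAB)
  obtain ⟨φ, hφ⟩ := exists_constituent hres (by
    show θ _ ≠ 0
    exact hθ.apply_one_ne_zero)
  obtain ⟨ν, hν⟩ := exists_hom_of_degree_one φ.2.isCharacter
    (degree_eq_one_of_comm (fun a b : A => Subtype.ext (hAc a a.2 b b.2)) φ.2)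
  obtain ⟨f, hf⟩ := hres.exists_nat_classInner φ.2.isCharacter
  refine ⟨ν, f, fun h0 => hφ (by rw [hf, h0, Nat.cast_zero]), ?_⟩
  rw [← hf, hν]

/-- Characters with a fixed constituent on `A` have small degree. -/
theorem deg_fixed [Fintype G] {n : ℕ} (hdeg : ∀ χ : G → ℂ, IsIrrCharacter G χ → charDegree χ ≤ n)
    (A : Subgroup G) [A.Normal] [Fintype A] (l : A →* ℂˣ) (B : Subgroup G) [Fintype B]
    (hAB : A ≤ B) (β : B →* ℂˣ) (hβ : ∀ (a : A) (ha : (a : G) ∈ B), β ⟨a, ha⟩ = l a)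
    {θ : B → ℂ} (hθ : IsIrrCharacter B θ) (ν : A →* ℂˣ) {f : ℕ} (hf0 : f ≠ 0)
    (hf : classInner (fun a : A => θ ⟨a, hAB a.2⟩) (fun a : A => (ν a : ℂ)) = f)
    (hinv : inertia A (fun a : A => (ν a : ℂ)) = ⊤) :
    charDegree θ * (inertia A (fun a : A => (l a : ℂ))).index ≤ n := by
  rw [degree_eq_mult A B hAB hθ ν hf0 hf, hinv, Subgroup.relIndex_top_left, mul_one]
  have hin : inertia A (fun a : A => ((ν * l) a : ℂ)) = inertia A (fun a : A => (l a : ℂ)) := by
    ext g
    rw [mem_inertia_iff, mem_inertia_iff]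
    have hg := (mem_inertia_iff A).mp (show g ∈ inertia A (fun a : A => (ν a : ℂ)) by
      rw [hinv]; exact Subgroup.mem_top g)
    refine forall_congr' fun a => ?_
    simp only [MonoidHom.mul_apply, Units.val_mul]
    rw [hg a]
    exact mul_right_inj' (Units.ne_zero _)
  rw [← hin]
  refine mult_mul_index_le bot_le 1 (degLe_bot hdeg) A B bot_le hAB
    (isIrrCharacter_mul_linear hθ β) (fun z hz => over_bot _ z hz) (ν * l) ?_
  rw [← hf]
  simp only [classInner, Pi.mul_apply]
  congr 1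
  refine Finset.sum_congr rfl fun a _ => ?_
  rw [hβ a, MonoidHom.mul_apply, Units.val_mul, map_mul]
  have h1 : (l a : ℂ) * conj (l a : ℂ) = 1 := by
    rw [Complex.mul_conj, Complex.normSq_eq_norm_sq, norm_hom A l a]; simp
  calc _ = θ ⟨a, hAB a.2⟩ * conj (ν a : ℂ) * ((l a : ℂ) * conj (l a : ℂ)) := by ring
    _ = _ := by rw [h1, mul_one]

theorem arith_two {n m : ℕ} (hm : 2 ≤ m) (h2 : 2 ≤ n / m) :
    m * n ^ 2 * (n / m).factorial ^ 2 * (n - n / m).factorial ^ 2 ≤ n.factorial ^ 2 := by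
  set d := n / m with hd
  have hdn : 2 * d ≤ n := by
    have := Nat.div_mul_le_self n m
    calc 2 * d ≤ m * d := Nat.mul_le_mul_right _ hm
      _ ≤ n := by rw [mul_comm]; exact this
  have hmn : 2 * m ≤ n := by
    have := Nat.div_mul_le_self n m
    calc 2 * m ≤ d * m := Nat.mul_le_mul_right _ h2
      _ ≤ n := this
  have hch : n.choose 2 ≤ n.choose d := by
    have aux : ∀ k, 2 ≤ k → k ≤ n / 2 → n.choose 2 ≤ n.choose k := by
      intro k hk
      induction k, hk using Nat.le_induction with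
      | base => exact fun _ => le_rfl
      | succ j hj ih =>
        exact fun hjn => (ih (by omega)).trans
          (Nat.choose_le_succ_of_lt_half_left (by omega))
    exact aux d h2 (by omega)
  have hmc : m * n ^ 2 ≤ n.choose 2 ^ 2 := by
    have hc : 2 * n.choose 2 = n * (n - 1) := by
      obtain ⟨j, rfl⟩ : ∃ j, n = j + 1 := ⟨n - 1, by omega⟩
      rw [Nat.choose_two_right, Nat.add_sub_cancel, Nat.mul_div_cancel']
      exact (Nat.even_mul_succ_self j).two_dvd.trans (dvd_of_eq (mul_comm _ _))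
    obtain ⟨j, rfl⟩ : ∃ j, n = j + 4 := ⟨n - 4, by omega⟩
    rw [show j + 4 - 1 = j + 3 from rfl] at hc
    have h4 : 4 * (m * (j + 4) ^ 2) ≤ 4 * ((j + 4).choose 2) ^ 2 := by
      rw [show 4 * ((j + 4).choose 2) ^ 2 = (2 * (j + 4).choose 2) ^ 2 by ring, hc, mul_pow,
        ← mul_assoc, mul_comm ((j + 4) ^ 2)]
      exact Nat.mul_le_mul_right _ (by nlinarith)
    omega
  calc m * n ^ 2 * d.factorial ^ 2 * (n - d).factorial ^ 2
      ≤ n.choose d ^ 2 * d.factorial ^ 2 * (n - d).factorial ^ 2 := by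
        refine Nat.mul_le_mul_right _ (Nat.mul_le_mul_right _ (hmc.trans ?_))
        exact Nat.pow_le_pow_left hch 2
    _ = n.factorial ^ 2 := by
        rw [← mul_pow, ← mul_pow, Nat.choose_mul_factorial_mul_factorial (by omega)]

theorem arith_one {n m : ℕ} (hm : 2 ≤ m) (hmn : m < n) :
    m * n ^ 2 * (n - 2).factorial ^ 2 ≤ n.factorial ^ 2 := by
  obtain ⟨j, rfl⟩ : ∃ j, n = j + 2 := ⟨n - 2, by omega⟩
  rw [Nat.add_sub_cancel, Nat.factorial_succ, Nat.factorial_succ]
  calc m * (j + 2) ^ 2 * j.factorial ^ 2 ≤ (j + 1) ^ 2 * (j + 2) ^ 2 * j.factorial ^ 2 :=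
        Nat.mul_le_mul_right _ (Nat.mul_le_mul_right _
          (le_trans (by omega : m ≤ j + 1) (Nat.le_self_pow two_ne_zero _)))
    _ = _ := by ring

theorem arith_moved {f r R m n : ℕ} (hlt : r < R) (hfR : f * R ≤ n) (hRm : R ≤ m) :
    f * r * m + n ≤ n * m := by
  have h1 : f * r + f ≤ f * R := by
    rw [← Nat.mul_succ]; exact Nat.mul_le_mul_left _ hlt
  obtain ⟨w, rfl⟩ : ∃ w, n = f * R + w := ⟨n - f * R, by omega⟩
  have h2 : (f * r + f) * m ≤ f * R * m := Nat.mul_le_mul_right _ h1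
  have h3 : f * R ≤ f * m := Nat.mul_le_mul_left _ hRm
  have h4 : w ≤ w * m := Nat.le_mul_of_pos_right _ (by omega)
  nlinarith

/-- Isaacs–Passman: degrees at most `n` give an abelian subgroup of index at most `(n!)²`. -/
theorem exists_abelian_index_le : ∀ n : ℕ, ∀ (G : Type u) [Group G] [Finite G],
    (∀ χ : G → ℂ, IsIrrCharacter G χ → charDegree χ ≤ n) →
      ∃ B : Subgroup G, (∀ a ∈ B, ∀ b ∈ B, a * b = b * a) ∧ B.index ≤ n.factorial ^ 2 := by
  intro n
  induction n using Nat.strong_induction_on with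
  | _ n IH => ?_
  intro G _ _ hdeg
  classical
  haveI := Fintype.ofFinite G
  have h0 : 1 ≤ n := (isIrrCharacter_one (G := G)).charDegree_pos.trans_le
    (hdeg _ isIrrCharacter_one)
  have lift : ∀ (K : Subgroup G) (k N : ℕ), k < n → K.index ≤ N →
      (∀ θ : K → ℂ, IsIrrCharacter K θ → charDegree θ ≤ k) →
      N * k.factorial ^ 2 ≤ n.factorial ^ 2 →
      ∃ B : Subgroup G, (∀ a ∈ B, ∀ b ∈ B, a * b = b * a) ∧ B.index ≤ n.factorial ^ 2 := by
    intro K k N hk hKN hKdeg hN
    obtain ⟨B, hBc, hBi⟩ := IH k hk K hKdeg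
    refine ⟨B.map K.subtype, ?_, ?_⟩
    · rintro _ ⟨a, ha, rfl⟩ _ ⟨b, hb, rfl⟩
      exact congrArg Subtype.val (hBc a ha b hb)
    · rw [Subgroup.index_map_subtype, mul_comm]
      exact (Nat.mul_le_mul hKN hBi).trans hN
  rcases Nat.lt_or_ge n 2 with hn | hn
  · obtain rfl : n = 1 := by omega
    have hc := (comm_iff_all_linear (G := G)).mpr fun χ => by
      rw [χ.2.apply_one_eq_charDegree,
        le_antisymm (hdeg χ χ.2) χ.2.charDegree_pos, Nat.cast_one]
    exact ⟨⊤, fun a _ b _ => hc a b, by simp⟩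
  have hinj : Function.Injective (1 : (⊥ : Subgroup G) →* ℂˣ) := fun a b _ => Subsingleton.elim a b
  rcases small_or_abelian bot_le 1 hinj hn (degLe_bot hdeg) with ⟨x, hx, hxi⟩ | ⟨B, -, hBc, hBi⟩
  swap
  · exact ⟨B, hBc, hBi⟩
  set H := Subgroup.centralizer ({x} : Set G) with hH
  haveI : Fintype H := Fintype.ofFinite _
  by_cases hgood : ∀ θ : H → ℂ, IsIrrCharacter H θ → charDegree θ ≤ n - 1
  · refine lift H (n - 1) (n ^ 2) (by omega) hxi hgood ?_
    rw [← mul_pow, Nat.mul_factorial_pred (by omega)]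
  push Not at hgood
  obtain ⟨ψ, hψ, hψd⟩ := hgood
  obtain ⟨hcomm, hψn, χ, hχ, hres, μ, hμ, hμx⟩ := big_centralizer_char bot_le 1 (degLe_bot hdeg)
    x H rfl hψ (fun z hz => over_bot ψ z hz) (by omega)
  set A := conjSpan x with hAdef
  haveI : Fintype A := Fintype.ofFinite _
  have hAc : ∀ a ∈ A, ∀ b ∈ A, a * b = b * a := conjSpan_comm hcomm
  have hAH : A ≤ H := conjSpan_le_centralizer hcomm
  have hfin : Finite (A →* ℂˣ) := Finite.of_equiv _ (linearCharEquiv (G := A)).symm
  haveI := hfin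
  obtain ⟨l, hl⟩ := Finite.exists_max fun ν : A →* ℂˣ =>
    (inertia A (fun a : A => (ν a : ℂ))).index
  set T := inertia A (fun a : A => (l a : ℂ)) with hT
  have hle_n : ∀ ν : A →* ℂˣ, (inertia A (fun a : A => (ν a : ℂ))).index ≤ n := by
    intro ν
    have := mult_mul_index_le bot_le 1 (degLe_bot hdeg) A A bot_le le_rfl
      (isIrrCharacter_linear ν) (fun z hz => over_bot (fun a : A => (ν a : ℂ)) z hz) ν (f := 1)
      (by rw [Nat.cast_one]; exact classInner_irr_self (isIrrCharacter_linear ν))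
    rwa [one_mul] at this
  have hm : 2 ≤ T.index := by
    obtain ⟨g, hg⟩ : ∃ g : G, g * x * g⁻¹ * x⁻¹ ≠ 1 := by
      by_contra hcon
      push Not at hcon
      exact hx (Subgroup.mem_center_iff.mpr fun g => by
        have := hcon g
        rwa [mul_inv_eq_one, mul_inv_eq_iff_eq_mul] at this)
    have hxA : x ∈ A := mem_conjSpan x
    have hgxA : g * x * g⁻¹ ∈ A := (conjSpan_normal x).conj_mem x hxA g
    obtain ⟨χA, hχA, -, hneA⟩ := exists_over_apply_ne (G := A) (Z := ⊥) bot_le 1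
      (fun a b _ => Subsingleton.elim a b) (c := ⟨g * x * g⁻¹, hgxA⟩ * (⟨x, hxA⟩ : A)⁻¹)
      (fun h => hg (congrArg Subtype.val h))
    obtain ⟨ν, rfl⟩ := exists_hom_of_degree_one hχA.isCharacter
      (degree_eq_one_of_comm (fun a b : A => Subtype.ext (hAc a a.2 b b.2)) hχA)
    refine le_trans ?_ (hl ν)
    rcases Nat.lt_or_ge (inertia A (fun a : A => (ν a : ℂ))).index 2 with h | h
    · exfalso
      have hTop : inertia A (fun a : A => (ν a : ℂ)) = ⊤ := Subgroup.index_eq_one.mp (by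
        have := Subgroup.index_ne_zero_of_finite (H := inertia A (fun a : A => (ν a : ℂ))); omega)
      have h1 := (mem_inertia_iff A).mp (show g ∈ inertia A (fun a : A => (ν a : ℂ)) by
        rw [hTop]; exact Subgroup.mem_top g) ⟨x, hxA⟩
      refine hneA ?_
      simp only [map_mul, map_inv, map_one, Units.val_mul, Units.val_one]
      rw [show (ν ⟨g * x * g⁻¹, hgxA⟩ : ℂ) = (ν ⟨x, hxA⟩ : ℂ) from h1,
        Units.mul_inv]
    · exact h
  have hAT : A ≤ T := fun a ha => (mem_inertia_iff A).mpr fun b => by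
    congr 2
    apply Subtype.ext
    show a * b * a⁻¹ = b
    rw [hAc a ha b b.2, mul_inv_cancel_right]
  haveI : Fintype T := Fintype.ofFinite _
  set lT := l.comp (Subgroup.subgroupOfEquivOfLe hAT).toMonoidHom with hlT
  have hdegT : DegLe (A.subgroupOf T) lT (n / T.index) := by
    intro φ hφ ho
    rw [Nat.le_div_iff_mul_le (by omega)]
    refine mult_mul_index_le bot_le 1 (degLe_bot hdeg) A T bot_le hAT hφ
      (fun z hz => over_bot _ z hz) l ?_
    rw [← hφ.apply_one_eq_charDegree]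
    exact scalar_constituent_eq (hφ.isCharacter.comp (Subgroup.inclusion hAT)) l
      fun a => ho ⟨⟨a, hAT a.2⟩, Subgroup.mem_subgroupOf.mpr a.2⟩
  haveI : (A.subgroupOf T).Normal := (conjSpan_normal x).subgroupOf T
  obtain ⟨B₀, β, hAB₀, hidx, hβ⟩ := ext_invariant (extStmt_all (n / T.index))
    (A.subgroupOf T) lT (fun t a => Units.ext ((mem_inertia_iff A).mp t.2
      ⟨(a : T), Subgroup.mem_subgroupOf.mp a.2⟩)) hdegT
  set e := B₀.equivMapOfInjective T.subtype T.subtype_injective with he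
  set B := B₀.map T.subtype ⊓ H with hB
  haveI : Fintype B := Fintype.ofFinite _
  have hAB : A ≤ B := le_inf (fun a ha => ⟨⟨a, hAT ha⟩, hAB₀ (Subgroup.mem_subgroupOf.mpr ha), rfl⟩)
    hAH
  set βB : B →* ℂˣ := (β.comp e.symm.toMonoidHom).comp (Subgroup.inclusion inf_le_left) with hβB
  have hβB' : ∀ (a : A) (ha : (a : G) ∈ B), βB ⟨a, ha⟩ = l a := by
    intro a ha
    have haB : (⟨a, hAT a.2⟩ : T) ∈ B₀ := hAB₀ (Subgroup.mem_subgroupOf.mpr a.2)
    have h1 : e.symm (Subgroup.inclusion inf_le_left ⟨a, ha⟩) = ⟨⟨a, hAT a.2⟩, haB⟩ :=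
      e.injective (by rw [MulEquiv.apply_symm_apply]; rfl)
    rw [hβB, MonoidHom.comp_apply, MonoidHom.comp_apply, MulEquiv.coe_toMonoidHom, h1]
    exact hβ ⟨⟨a, hAT a.2⟩, Subgroup.mem_subgroupOf.mpr a.2⟩ haB
  have hBH : B ≤ H := inf_le_right
  have hBi : B.index ≤ (n / T.index).factorial ^ 2 * T.index * n ^ 2 := by
    refine Subgroup.index_inf_le.trans (Nat.mul_le_mul ?_ hxi)
    rw [Subgroup.index_map_subtype]
    exact Nat.mul_le_mul_right _ hidx
  set d := n / T.index with hd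
  have hd1 : 1 ≤ d := (Nat.le_div_iff_mul_le (by omega)).mpr (by rw [one_mul]; exact hle_n l)
  have hdm : d * T.index ≤ n := Nat.div_mul_le_self _ _
  have hmn : d = 1 → T.index < n := by
    intro hd1
    refine lt_of_le_of_ne (hle_n l) fun hmeq => ?_
    have hB₀ : B₀ = ⊤ := Subgroup.index_eq_one.mp (le_antisymm
      (by rw [hd1] at hidx; simpa using hidx) (Nat.one_le_iff_ne_zero.mpr Subgroup.index_ne_zero_of_finite))
    have hBT : B = T ⊓ H := by rw [hB, hB₀, ← MonoidHom.range_eq_map, Subgroup.range_subtype]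
    haveI := Fintype.ofFinite (B.subgroupOf H)
    set eB := Subgroup.subgroupOfEquivOfLe hBH with heB
    have hψB : IsCharacter (B.subgroupOf H) (fun b : B.subgroupOf H => ψ b) :=
      hψ.isCharacter.comp (B.subgroupOf H).subtype
    obtain ⟨θ', hθ'⟩ := exists_constituent hψB hψ.apply_one_ne_zero
    set θ : B → ℂ := fun b => (θ' : B.subgroupOf H → ℂ) (eB.symm b) with hθdef
    have hθ : IsIrrCharacter B θ := isIrrCharacter_comp_equiv eB.symm θ'.2
    obtain ⟨ν, f, hf0, hf⟩ := exists_linear_constituent A hAc B hAB hθ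
    have hsc : ∀ a : A, ∃ c : ℂ, χ (a : G) = c * χ 1 ∧ (ν a : ℂ) = c := by
      intro a
      obtain ⟨c, hc, hca⟩ := scalar_on_conjSpan hχ hμ hμx a.2
      refine ⟨c, hca, ?_⟩
      have h1 : ψ ⟨a, hAH a.2⟩ = c * ψ 1 := by
        rw [← congrFun hres ⟨a, hAH a.2⟩, ← congrFun hres 1]
        exact hca
      have h2 := scalar_of_irr_constituent hψB θ'.2 hθ'
        (z := eB.symm ⟨a, hAB a.2⟩) hc h1
      have h3 := scalar_of_irr_constituent (G := A)
        (ψ := fun a : A => θ ⟨a, hAB a.2⟩) (hθ.isCharacter.comp (Subgroup.inclusion hAB))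
        (isIrrCharacter_linear ν) (by rw [hf]; exact_mod_cast hf0) (z := a) hc (by
          show (θ' : B.subgroupOf H → ℂ) (eB.symm ⟨a, hAB a.2⟩) = c * (θ' : B.subgroupOf H → ℂ) (eB.symm _)
          rw [h2]
          congr 2)
      simpa using h3
    have hinv : inertia A (fun a : A => (ν a : ℂ)) = ⊤ := by
      rw [eq_top_iff]
      intro g _
      refine (mem_inertia_iff A).mpr fun a => ?_
      obtain ⟨c, hca, hνa⟩ := hsc a
      obtain ⟨c', hca', hνa'⟩ := hsc ⟨g * a * g⁻¹, (conjSpan_normal x).conj_mem a a.2 g⟩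
      dsimp only at hca' ⊢
      rw [hχ.isCharacter.conj_invariant, hca] at hca'
      rw [hνa, hνa', mul_right_cancel₀ hχ.apply_one_ne_zero hca']
    have hlin := deg_fixed hdeg A l B hAB βB hβB' hθ ν hf0 hf hinv
    have hθ1 : charDegree θ ≤ 1 := by
      rw [← hT, hmeq] at hlin
      exact Nat.le_of_mul_le_mul_right (by rwa [one_mul]) (by omega)
    have hind : classInner (indFun (B.subgroupOf H) (θ' : B.subgroupOf H → ℂ)) ψ ≠ 0 := by
      rw [classInner_indFun _ _ hψ.isClassFunction, ← classInner_conj_symm]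
      exact fun h => hθ' ((map_eq_zero _).mp h)
    have hle := degree_le_of_constituent hψ (isCharacter_indFun _ θ'.2.isCharacter) hind
    rw [indFun_apply_one, hψ.apply_one_eq_charDegree, hψn, θ'.2.apply_one_eq_charDegree,
      ← Nat.cast_mul, Complex.natCast_re, Complex.natCast_re, Nat.cast_le] at hle
    have hdd : charDegree (θ' : B.subgroupOf H → ℂ) = charDegree θ := by
      show _ = charDegree fun b => (θ' : B.subgroupOf H → ℂ) (eB.symm b)
      simp [charDegree]
    have hTtop : T ≠ ⊤ := fun h => by rw [h, Subgroup.index_top] at hm; omega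
    have hlt := relIndex_lt (x := x) H le_rfl l hTtop
    rw [← hT, ← Subgroup.inf_relIndex_right, ← hBT] at hlt
    have := Nat.mul_le_mul_left (B.subgroupOf H).index (hdd.le.trans hθ1)
    rw [mul_one] at this
    exact absurd hlt (not_lt.mpr (hmeq.le.trans (hle.trans this)))
  have hdn : d < n := Nat.div_lt_self (by omega) hm
  have hdeg_B : ∀ θ : B → ℂ, IsIrrCharacter B θ →
      charDegree θ * T.index ≤ n ∨ charDegree θ * T.index + n ≤ n * T.index := by
    intro θ hθ
    obtain ⟨ν, f, hf0, hf⟩ := exists_linear_constituent A hAc B hAB hθ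
    by_cases hinv : inertia A (fun a : A => (ν a : ℂ)) = ⊤
    · exact Or.inl (deg_fixed hdeg A l B hAB βB hβB' hθ ν hf0 hf hinv)
    · right
      have hlt := relIndex_lt (x := x) B hBH ν hinv
      have hfR := mult_mul_index_le bot_le 1 (degLe_bot hdeg) A B bot_le hAB hθ
        (fun z hz => over_bot _ z hz) ν hf
      rw [degree_eq_mult A B hAB hθ ν hf0 hf]
      have hRm : (inertia A (fun a : A => (ν a : ℂ))).index ≤ T.index := hl ν
      exact arith_moved hlt hfR hRm
  rcases Nat.lt_or_ge d 2 with hd2 | hd2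
  · have hd' : d = 1 := by omega
    have hlt := hmn hd'
    refine lift B (n - 2) (T.index * n ^ 2) (by omega) ?_ (fun θ hθ => ?_) (arith_one hm hlt)
    · refine hBi.trans (le_of_eq ?_)
      rw [hd']; simp
    · rcases hdeg_B θ hθ with h | h
      · have : charDegree θ ≤ d := by
          rw [hd, Nat.le_div_iff_mul_le (by omega)]; exact h
        omega
      · by_contra hc
        have h2 : (n - 1) * T.index ≤ charDegree θ * T.index :=
          Nat.mul_le_mul_right _ (by omega)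
        obtain ⟨j, rfl⟩ : ∃ j, n = j + 1 := ⟨n - 1, by omega⟩
        rw [Nat.add_sub_cancel] at h2
        nlinarith
  · refine lift B (n - d) (T.index * n ^ 2 * d.factorial ^ 2) (by omega)
      (hBi.trans (le_of_eq (by ring))) (fun θ hθ => ?_) (arith_two hm hd2)
    rcases hdeg_B θ hθ with h | h
    · have h1 : charDegree θ ≤ d := by
        rw [hd, Nat.le_div_iff_mul_le (by omega)]; exact h
      have h2 : 2 * d ≤ n := by nlinarith
      omega
    · by_contra hc
      have h2 : (n - d + 1) * T.index ≤ charDegree θ * T.index :=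
        Nat.mul_le_mul_right _ (by omega)
      clear_value d
      obtain ⟨j, hj⟩ : ∃ j, n = j + d := ⟨n - d, by omega⟩
      rw [hj, Nat.add_sub_cancel] at h2
      rw [hj] at h
      nlinarith

end Cfsg.Lib.BDeg
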